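import Mathlib
import Cfsg.Agent.Lib.helper8.ChevReeC1

/-!
# Project REE (helper7): Ward's structure theorem for the small Ree groups `²G₂(q)`

Abstract setting: a finite group `G` with the data and the facts that helper8's landed
toolkit provides for `G = ↥(twistedG2 K (3 ^ m))` (`|K| = q = 3 ^ (2 m + 1)`, `m ≥ 1`),
plus a faithful 7-dimensional representation over `K`.  All the group theory of the project
is proved from `ReeAx` alone; the block BR instantiates it.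
-/

set_option autoImplicit false

namespace Cfsg.Agent.Lib.helper7.REE

open Matrix Cfsg.Agent.Lib.helper8

universe u v

/-- `q = 3 ^ (2 m + 1)` -/
def qq (m : ℕ) : ℕ := 3 ^ (2 * m + 1)

/-- `r = 3 ^ (m + 1)`, so `r ^ 2 = 3 q` -/
def rr (m : ℕ) : ℕ := 3 ^ (m + 1)

/-- `N₀ = q² - q + 1 = (q + r + 1) (q - r + 1)` -/
def nn (m : ℕ) : ℕ := qq m ^ 2 - qq m + 1

/-- the order of the group: `q³ (q - 1) (q³ + 1)` -/
def gg (m : ℕ) : ℕ := qq m ^ 3 * (qq m - 1) * (qq m ^ 3 + 1)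

/-- the explicit non-split torus `SO₂(K) = C(W)` of `SL₂(K)` (`-1` is a non-square in `K`):
matrices `!![a, -b; b, a]`. -/
def so2 (K : Type v) [Field K] : Subgroup (SpecialLinearGroup (Fin 2) K) where
  carrier := {g | g 0 0 = g 1 1 ∧ g 0 1 = -(g 1 0)}
  one_mem' := by simp
  mul_mem' := by
    intro a b ha hb
    obtain ⟨ha1, ha2⟩ := ha
    obtain ⟨hb1, hb2⟩ := hb
    have hmul : ∀ i j : Fin 2, (a * b) i j = a i 0 * b 0 j + a i 1 * b 1 j := by
      intro i j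
      have : ((a * b : SpecialLinearGroup (Fin 2) K) : Matrix (Fin 2) (Fin 2) K) =
          (a : Matrix (Fin 2) (Fin 2) K) * (b : Matrix (Fin 2) (Fin 2) K) :=
        Matrix.SpecialLinearGroup.coe_mul a b
      show ((a * b : SpecialLinearGroup (Fin 2) K) : Matrix (Fin 2) (Fin 2) K) i j = _
      rw [this, Matrix.mul_apply, Fin.sum_univ_two]
    refine ⟨?_, ?_⟩
    · rw [hmul, hmul, ha1, ha2, hb1, hb2]; ring
    · rw [hmul, hmul, ha1, ha2, hb1, hb2]; ring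
  inv_mem' := by
    intro a ha
    obtain ⟨ha1, ha2⟩ := ha
    have hinv : ((a⁻¹ : SpecialLinearGroup (Fin 2) K) : Matrix (Fin 2) (Fin 2) K) =
        adjugate (a : Matrix (Fin 2) (Fin 2) K) := Matrix.SpecialLinearGroup.coe_inv a
    refine ⟨?_, ?_⟩
    · show ((a⁻¹ : SpecialLinearGroup (Fin 2) K) : Matrix (Fin 2) (Fin 2) K) 0 0 =
        ((a⁻¹ : SpecialLinearGroup (Fin 2) K) : Matrix (Fin 2) (Fin 2) K) 1 1
      rw [hinv, Matrix.adjugate_fin_two]
      simpa using ha1.symm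
    · show ((a⁻¹ : SpecialLinearGroup (Fin 2) K) : Matrix (Fin 2) (Fin 2) K) 0 1 =
        -((a⁻¹ : SpecialLinearGroup (Fin 2) K) : Matrix (Fin 2) (Fin 2) K) 1 0
      rw [hinv, Matrix.adjugate_fin_two]
      simp only [Matrix.of_apply, Matrix.cons_val_zero, Matrix.cons_val_one, neg_neg]
      rw [ha2, neg_neg]

/-- The data and facts about `²G₂(q)` from which the whole structure theory is derived. -/
structure ReeAx (G : Type u) [Group G] [Finite G] (K : Type v) [Field K] [Fintype K]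
    (m : ℕ) where
  /-- `m ≥ 1` (so `q ≥ 27`) -/
  hm : 1 ≤ m
  hK : Fintype.card K = qq m
  card : Nat.card G = gg m
  /-- the Sylow 3-subgroup `U¹` -/
  U : Subgroup G
  /-- the torus `H¹` -/
  H : Subgroup G
  /-- the Borel subgroup `B¹ = U¹ H¹` -/
  B : Subgroup G
  /-- the Weyl element -/
  n0 : G
  /-- the involution of `H¹` -/
  t : G
  /-- `SL₂(K) → C(t)`, kernel `±1`, image `L ≅ PSL₂(K)` -/
  psi : SpecialLinearGroup (Fin 2) K →* G
  /-- the faithful 7-dimensional representation -/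
  rho : G →* GL (Fin 7) K
  U_card : Nat.card U = qq m ^ 3
  H_card : Nat.card H = qq m - 1
  H_cyc : IsCyclic H
  B_iff : ∀ b : G, b ∈ B ↔ ∃ u ∈ U, ∃ h ∈ H, b = u * h
  H_norm : ∀ h ∈ H, ∀ u ∈ U, h * u * h⁻¹ ∈ U
  bruhat : ∀ g : G, g ∈ B ∨ ∃ u₁ ∈ U, ∃ h ∈ H, ∃ u ∈ U, g = u₁ * (h * n0) * u
  ti : ∀ a y : G, y ∈ U → y ≠ 1 → a * y * a⁻¹ ∈ B → a ∈ B
  n0_sq : n0 * n0 = 1
  n0_notin : n0 ∉ B
  n0_inv : ∀ h ∈ H, n0 * h * n0⁻¹ = h⁻¹
  uniq : ∀ x ∈ U, n0⁻¹ * x * n0 ∈ B → x = 1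
  odd_free : ∀ h ∈ H, h ≠ 1 → Odd (orderOf h) → U ⊓ Subgroup.centralizer {h} = ⊥
  U_exp : ∀ u ∈ U, u ^ 9 = 1
  U_ord3 : Nat.card {u : ↥U // orderOf u = 3} = qq m ^ 2 - 1
  t_mem : t ∈ H
  t_ne : t ≠ 1
  t_sq : t * t = 1
  psi_ker : ∀ g, psi g = 1 → g = 1 ∨ g = -1
  psi_neg : psi (-1) = 1
  psi_comm : ∀ g, t * psi g = psi g * t
  psi_cent : ∀ c : G, t * c = c * t → ∃ g, c = psi g ∨ c = t * psi g
  psi_ne_t : ∀ g, psi g ≠ t
  psi_U : ∀ s : K, psi (h8slU s) ∈ U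
  psi_D : ∀ s : K, s ≠ 0 → psi (h8slD s) ∈ H
  psi_W : psi h8slW = n0
  fixU : ∀ x ∈ U, t * x * t⁻¹ = x → ∃ p : K, x = psi (h8slU p)
  invol_conj : ∀ s : G, s ≠ 1 → s * s = 1 → ∃ g, g * t * g⁻¹ = s
  syl2 : ∀ S : Sylow 2 G, (∀ x ∈ S, x * x = 1) ∧
    Subgroup.centralizer ((S : Subgroup G) : Set G) = S ∧
    Nat.card (Subgroup.normalizer ((S : Subgroup G) : Set G)) = 168
  rho_inj : Function.Injective rho

namespace ReeAx

variable {G : Type u} [Group G] [Finite G] {K : Type v} [Field K] [Fintype K] {m : ℕ}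

/-- `L = ψ(SL₂(K)) ≅ PSL₂(K)`, so that `C(t) = ⟨t⟩ × L` -/
def L (R : ReeAx G K m) : Subgroup G := R.psi.range

/-- the non-split torus `D = ψ(SO₂(K))` of `L`, cyclic of order `(q + 1) / 2`; its involution
is `n0 = ψ(W)` -/
def D (R : ReeAx G K m) : Subgroup G := (so2 K).map R.psi

/-- `E = ⟨t⟩ × D`, abelian of order `q + 1`; `E = V × A₁` -/
def E (R : ReeAx G K m) : Subgroup G := Subgroup.zpowers R.t ⊔ R.D

/-- the four-group `V = ⟨t, n0⟩ = {1, t, n0, t n0}` -/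
def V (R : ReeAx G K m) : Subgroup G := Subgroup.closure {R.t, R.n0}

/-- `A₁`: the subgroup of order `(q + 1) / 4` (the elements of odd order) of `D`
(as a closure, to keep the definition proof-free; row `mem_A1` gives the membership) -/
def A1 (R : ReeAx G K m) : Subgroup G :=
  Subgroup.closure {d | d ∈ R.D ∧ d ^ ((qq m + 1) / 4) = 1}

/-- `N = N_G(H) = H ∪ H n0`, of order `2 (q - 1)` -/
def NH (R : ReeAx G K m) : Subgroup G := R.H ⊔ Subgroup.zpowers R.n0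

/-- the "π-elements": `x ≠ 1` with `x ^ N₀ = 1` -/
def IsPi (_R : ReeAx G K m) (x : G) : Prop := x ≠ 1 ∧ x ^ nn m = 1

/-- the "π-tori": centralisers of π-elements -/
def IsTor (R : ReeAx G K m) (A : Subgroup G) : Prop :=
  ∃ x : G, R.IsPi x ∧ A = Subgroup.centralizer {x}

end ReeAx

end Cfsg.Agent.Lib.helper7.REE
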