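import Mathlib
import Cfsg.Agent.Lib.helper7.REE.Defs
import Cfsg.Agent.Lib.helper8.ChevReeD7
import Cfsg.Agent.Lib.helper8.ChevRee41
import Cfsg.Agent.Lib.helper8.ChevRee35
import Cfsg.Agent.Lib.helper8.ChevRee33

set_option autoImplicit false

namespace Cfsg.Agent.Lib.helper7.REE

open Matrix Cfsg.Lie Cfsg.Lie.ChevalleyDatum Cfsg.Agent.Lib.helper8

universe u

section gen
variable {Γ : Type*} [Group Γ]

/-- `X.subgroupOf T ≃* X ⊓ T` -/
noncomputable def reebr_equiv (X T : Subgroup Γ) : ↥(X.subgroupOf T) ≃* ↥(X ⊓ T) :=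
  (MulEquiv.subgroupCongr (Subgroup.inf_subgroupOf_right X T).symm).trans
    (Subgroup.subgroupOfEquivOfLe (inf_le_right : X ⊓ T ≤ T))

theorem reebr_equiv_val (X T : Subgroup Γ) (x : ↥(X.subgroupOf T)) :
    ((reebr_equiv X T x : ↥(X ⊓ T)) : Γ) = ((x : ↥T) : Γ) := rfl

theorem reebr_card (X T : Subgroup Γ) : Nat.card ↥(X.subgroupOf T) = Nat.card ↥(X ⊓ T) :=
  Nat.card_congr (reebr_equiv X T).toEquiv

end gen

variable {K : Type u} [Field K] [Fintype K] {m : ℕ}

/-- the bridge: the small Ree group satisfies `ReeAx`, given a faithful 7-dimensional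
representation -/
theorem reebr_main (hm : 1 ≤ m) (hK : Fintype.card K = 3 ^ (2 * m + 1))
    (rho : ↥(twistedG2 K (3 ^ m)) →* GL (Fin 7) K) (hrho : Function.Injective rho) :
    Nonempty (ReeAx ↥(twistedG2 K (3 ^ m)) K m) := by
  have hD : chevG2 ∈ [chevG2, chevB2, chevD4, chevF4, chevE6, chevE7, chevE8] := by simp
  have hB := h8base_all.{u} chevG2 hD
  have hC := h8commAll.{u} chevG2 hD
  obtain ⟨hO, hO2⟩ := h8ord_all chevG2 hD
  have hch3 := h8ree_char3 hK
  obtain ⟨R, hfe⟩ := h8ree_setup hK hB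
  obtain ⟨ψ, h1, h2, h3, h4⟩ := h8reeC_psi hK hB
  have P : H8ReePsi hB m ψ := ⟨h1, h2, h3, h4⟩
  obtain ⟨a, haH, ha1, ha2⟩ := h8ree_exists_invol hK
  have hav : (a : GL chevG2.Idx K) ∈ chevG2.diagonalSubgroup K ⊓ twistedG2 K (3 ^ m) :=
    Subgroup.mem_inf.mpr ⟨haH, a.2⟩
  have hav1 : (a : GL chevG2.Idx K) ≠ 1 := fun h => ha1 (Subtype.ext h)
  have hav2 : (a : GL chevG2.Idx K) * a = 1 := congrArg Subtype.val ha2
  let T := twistedG2 K (3 ^ m)
  let psi : SpecialLinearGroup (Fin 2) K →* ↥T := ψ.codRestrict T (fun g => P.mem g)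
  have hpsi : ∀ g, ((psi g : ↥T) : GL chevG2.Idx K) = ψ g := fun g => rfl
  let n0 : ↥T := ⟨h8reeN0 hB (3 ^ m), h8reeN0_mem _⟩
  have memU : ∀ x : ↥T, x ∈ (chevG2.posUnipotent K).subgroupOf T ↔
      (x : GL chevG2.Idx K) ∈ chevG2.posUnipotent K := fun x => Subgroup.mem_subgroupOf
  have memH : ∀ x : ↥T, x ∈ (chevG2.diagonalSubgroup K).subgroupOf T ↔
      (x : GL chevG2.Idx K) ∈ chevG2.diagonalSubgroup K := fun x => Subgroup.mem_subgroupOf
  have memB : ∀ x : ↥T, x ∈ (chevG2.borelSubgroup K).subgroupOf T ↔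
      (x : GL chevG2.Idx K) ∈ chevG2.borelSubgroup K := fun x => Subgroup.mem_subgroupOf
  refine ⟨{
    hm := hm
    hK := hK
    card := h8ree_card hK
    U := (chevG2.posUnipotent K).subgroupOf T
    H := (chevG2.diagonalSubgroup K).subgroupOf T
    B := (chevG2.borelSubgroup K).subgroupOf T
    n0 := n0
    t := a
    psi := psi
    rho := rho
    U_card := ?_
    H_card := ?_
    H_cyc := ?_
    B_iff := ?_
    H_norm := ?_
    bruhat := ?_
    ti := ?_
    n0_sq := ?_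
    n0_notin := ?_
    n0_inv := ?_
    uniq := ?_
    odd_free := ?_
    U_exp := ?_
    U_ord3 := ?_
    t_mem := ?_
    t_ne := ha1
    t_sq := ha2
    psi_ker := ?_
    psi_neg := ?_
    psi_comm := ?_
    psi_cent := ?_
    psi_ne_t := ?_
    psi_U := ?_
    psi_D := ?_
    psi_W := ?_
    fixU := ?_
    invol_conj := ?_
    syl2 := ?_
    rho_inj := hrho }⟩
  · -- U_card
    rw [reebr_card]; exact h8ree_U_card hK
  · -- H_card
    rw [reebr_card]; exact h8ree_H1_card hK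
  · -- H_cyc
    have hcyc := h8ree_H1_cyclic hK
    exact isCyclic_of_surjective (reebr_equiv (chevG2.diagonalSubgroup K) T).symm
      (reebr_equiv (chevG2.diagonalSubgroup K) T).symm.surjective
  · -- B_iff
    intro b
    rw [memB]
    constructor
    · intro hb
      obtain ⟨u, hu, k, hk, e⟩ := h8ree_B1_decomp hK hB b.1 hb b.2
      refine ⟨⟨u, hu.2⟩, (memU _).mpr hu.1, ⟨k, hk.2⟩, (memH _).mpr hk.1, Subtype.ext e⟩
    · rintro ⟨u, hu, h, hh, rfl⟩
      exact Subgroup.mul_mem _ (h8U_le_B chevG2 ((memU _).mp hu)) (h8H_le_B chevG2 ((memH _).mp hh))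
  · -- H_norm
    intro h hh u hu
    rw [memU]
    exact ((Subgroup.mem_normalizer_iff (H := chevG2.posUnipotent K)).mp
      (h8_H_le_normalizer_U chevG2 hB ((memH _).mp hh)) u.1).mp ((memU _).mp hu)
  · -- bruhat
    intro g
    rcases h8ree_G1_normal hK hB g.1 g.2 with ⟨u, hu, k, hk, e⟩ | ⟨u1, hu1, k, hk, u, hu, e⟩
    · left
      rw [memB, e]
      exact Subgroup.mul_mem _ (h8U_le_B chevG2 hu.1) (h8H_le_B chevG2 hk.1)
    · right
      exact ⟨⟨u1, hu1.2⟩, (memU _).mpr hu1.1, ⟨k, hk.2⟩, (memH _).mpr hk.1, ⟨u, hu.2⟩,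
        (memU _).mpr hu.1, Subtype.ext e⟩
  · -- ti
    intro x y hy hy1 hc
    rw [memB]
    exact h8ree_TI_core' hK hB x.1 y.1 x.2 ((memU _).mp hy) (fun h => hy1 (Subtype.ext h))
      ((memB _).mp hc)
  · -- n0_sq
    exact Subtype.ext (P.n0_sq hK)
  · -- n0_notin
    rw [memB]; exact h8reeN0_not_B hK hB
  · -- n0_inv
    intro h hh
    exact Subtype.ext (P.n0_conj_H hK a.1 hav hav1 hav2 h.1 ⟨(memH _).mp hh, h.2⟩)
  · -- uniq
    intro x hx hc
    exact Subtype.ext (h8ree_uniq hK hB x.1 ((memU _).mp hx) ((memB _).mp hc))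
  · -- odd_free
    intro h hh hh1 hodd
    have hbot := h8ree_odd_free hK h.1 ⟨(memH _).mp hh, h.2⟩ (fun e => hh1 (Subtype.ext e))
      (by rw [Subgroup.orderOf_coe]; exact hodd)
    rw [eq_bot_iff]
    intro x hx
    obtain ⟨hxU, hxc⟩ := Subgroup.mem_inf.mp hx
    rw [Subgroup.mem_bot]
    have hx1 : (x : GL chevG2.Idx K) ∈
        (chevG2.posUnipotent K ⊓ twistedG2 K (3 ^ m)) ⊓ Subgroup.centralizer {h.1} := by
      refine Subgroup.mem_inf.mpr ⟨⟨(memU _).mp hxU, x.2⟩, ?_⟩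
      rw [Subgroup.mem_centralizer_iff]
      intro y hy
      rw [Set.mem_singleton_iff.mp hy]
      have := (Subgroup.mem_centralizer_iff.mp hxc) h rfl
      exact congrArg Subtype.val this
    rw [hbot, Subgroup.mem_bot] at hx1
    exact Subtype.ext hx1
  · -- U_exp
    intro x hx
    obtain ⟨t, u, v, e⟩ := (h8ree_U_iff hK hB x.1).mp ⟨(memU _).mp hx, x.2⟩
    apply Subtype.ext
    show (x : GL chevG2.Idx K) ^ 9 = 1
    have h9 : (x : GL chevG2.Idx K) ^ 9 = ((x : GL chevG2.Idx K) ^ 3) ^ 3 := by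
      rw [← pow_mul]
    rw [h9, e, h8reeWordU_cube R hC (3 ^ m) hfe, h8reeStd_cube hC, h8reeStd_zero]
    simp only [mul_zero, neg_zero, ne_eq, OfNat.ofNat_ne_zero, not_false_eq_true,
      zero_pow]
    exact h8reeQ4_zero
  · -- U_ord3
    have h3 := h8ree_U_order3 hK
    refine Eq.trans ?_ h3
    exact Nat.card_congr (Equiv.subtypeEquiv (reebr_equiv (chevG2.posUnipotent K) T).toEquiv
      (fun w => by
        show orderOf w = 3 ↔ orderOf ((reebr_equiv (chevG2.posUnipotent K) T) w) = 3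
        rw [MulEquiv.orderOf_eq]))
  · -- t_mem
    exact (memH _).mpr haH
  · -- psi_ker
    intro g hg
    exact P.ker hK g (congrArg Subtype.val hg)
  · -- psi_neg
    exact Subtype.ext (P.neg_one hK)
  · -- psi_comm
    intro g
    exact Subtype.ext (P.invol_comm hK a.1 hav hav1 hav2 g)
  · -- psi_cent
    intro c hc
    obtain ⟨g, hg⟩ := P.cent hK a.1 hav hav1 hav2 c.1 c.2 (congrArg Subtype.val hc)
    refine ⟨g, ?_⟩
    rcases hg with hg | hg
    · left; exact Subtype.ext hg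
    · right; exact Subtype.ext hg
  · -- psi_ne_t
    intro g hg
    exact P.invol_not_mem hK a.1 hav hav1 hav2 g (congrArg Subtype.val hg)
  · -- psi_U
    intro s
    rw [memU]; exact P.U_mem_U hK s
  · -- psi_D
    intro s hs
    rw [memH]; exact P.D_mem_H s hs
  · -- psi_W
    exact Subtype.ext P.hW
  · -- fixU
    intro x hx hc
    obtain ⟨p, hp⟩ := P.fixU hK a.1 hav hav1 hav2 x.1 ⟨(memU _).mp hx, x.2⟩ (congrArg Subtype.val hc)
    exact ⟨p, Subtype.ext hp⟩
  · -- invol_conj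
    intro s hs1 hs2
    exact P.one_class hK a haH ha1 ha2 s hs1 hs2
  · -- syl2
    intro S
    obtain ⟨_, hexp⟩ := P.sylow hK a haH ha1 ha2 S
    obtain ⟨hc, hn⟩ := P.norm168 hK a haH ha1 ha2 S
    exact ⟨hexp, hc, hn⟩

end Cfsg.Agent.Lib.helper7.REE
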