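import Mathlib
import Cfsg.Prelude.Def_ChevStructure
import Cfsg.Prelude.Def_ChevG2
import Cfsg.Prelude.Def_LieTwisted
import Cfsg.Agent.Lib.helper8.ChevRee31

/-!
# Project REE, block M7: the faithful 7-dimensional representation of `²G₂(q)`.

In characteristic 3 the coordinates `h_a` (`a` the short simple root) and `e_r`, `r` short,
span a subspace of the adjoint module of `G₂` invariant under all `x_r(t)`.
-/

set_option autoImplicit false

namespace Cfsg.Agent.Lib.helper7.REE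

open Matrix Cfsg.Lie Cfsg.Lie.ChevalleyDatum Cfsg.Agent.Lib.helper8

universe u

/-- codes of the 7 invariant coordinates: `h_a` and the short roots -/
def s7c : List ℕ := [0, 4, 5, 6, 9, 10, 11]

/-- codes of the other 7 coordinates -/
def n7c : List ℕ := [1, 2, 3, 7, 8, 12, 13]

theorem reem7_chk : ((List.range 12).all fun r => s7c.all fun c => n7c.all fun c' =>
    H8Poly.isZeroP 3 (h8coeffAt (h8xAct chevG2 r H8Poly.va c) c')) = true := by decide +kernel

theorem reem7_chk0 : ((List.range 12).all fun r => s7c.all fun c => n7c.all fun c' =>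
    H8Poly.isZeroP 3 (h8coeffAt (h8xAct chevG2 r (H8Poly.const 0) c) c')) = true := by
  decide +kernel

variable {K : Type u} [Field K]

theorem reem7_codes (i j : chevG2.Idx) (hj : h8code chevG2 j ∈ s7c) (hi : h8code chevG2 i ∈ n7c) :
    i ≠ j := by
  rintro rfl
  revert hj hi
  generalize h8code chevG2 i = c
  unfold s7c n7c
  simp only [List.mem_cons, List.not_mem_nil, or_false]
  omega

/-- the offending entries of `x_r(t)` vanish in characteristic 3 -/
theorem reem7_x_entry [CharP K 3] (r : ℕ) (t : K) (i j : chevG2.Idx)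
    (hj : h8code chevG2 j ∈ s7c) (hi : h8code chevG2 i ∈ n7c) : chevG2.x K r t i j = 0 := by
  unfold ChevalleyDatum.x
  by_cases hr : r < chevG2.nroots
  · rw [dif_pos hr]
    have hr12 : r ∈ List.range 12 := List.mem_range.mpr hr
    by_cases ht : t = 0
    · have hc := reem7_chk0
      rw [List.all_eq_true] at hc
      have hc1 := hc r hr12
      rw [List.all_eq_true] at hc1
      have hc2 := hc1 _ hj
      rw [List.all_eq_true] at hc2
      have hc3 := hc2 _ hi
      have h1 := h8xAct_sound chevG2 (1 : K) 1 one_ne_zero one_ne_zero ⟨r, hr⟩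
        (H8Poly.const 0) j i
      rw [H8Poly.ev_const, Int.cast_zero] at h1
      rw [ht, ← h1, ← h8ev_coeffAt]
      exact H8Poly.ev_of_isZeroP 3 1 1 _ hc3
    · have hc := reem7_chk
      rw [List.all_eq_true] at hc
      have hc1 := hc r hr12
      rw [List.all_eq_true] at hc1
      have hc2 := hc1 _ hj
      rw [List.all_eq_true] at hc2
      have hc3 := hc2 _ hi
      have h1 := h8xAct_sound chevG2 t 1 ht one_ne_zero ⟨r, hr⟩ H8Poly.va j i
      rw [H8Poly.ev_va] at h1
      rw [← h1, ← h8ev_coeffAt]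
      exact H8Poly.ev_of_isZeroP 3 t 1 _ hc3
  · rw [dif_neg hr]
    exact Matrix.one_apply_ne (reem7_codes i j hj hi)

/-- matrices preserving the span of the 7 coordinates -/
def Stab7 (M : Matrix chevG2.Idx chevG2.Idx K) : Prop :=
  ∀ i j : chevG2.Idx, h8code chevG2 j ∈ s7c → h8code chevG2 i ∈ n7c → M i j = 0

theorem reem7_codes_cases (k : chevG2.Idx) : h8code chevG2 k ∈ s7c ∨ h8code chevG2 k ∈ n7c := by
  have h := h8code_lt chevG2 k
  have h14 : chevG2.rank + chevG2.nroots = 14 := rfl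
  rw [h14] at h
  generalize h8code chevG2 k = c at h
  unfold s7c n7c
  simp only [List.mem_cons, List.not_mem_nil, or_false]
  omega

theorem Stab7_one : Stab7 (1 : Matrix chevG2.Idx chevG2.Idx K) := fun i j hj hi =>
  Matrix.one_apply_ne (reem7_codes i j hj hi)

theorem Stab7_mul {M N : Matrix chevG2.Idx chevG2.Idx K} (hM : Stab7 M) (hN : Stab7 N) :
    Stab7 (M * N) := by
  intro i j hj hi
  rw [Matrix.mul_apply]
  apply Finset.sum_eq_zero
  intro k _
  rcases reem7_codes_cases k with hk | hk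
  · rw [hM i k hk hi, zero_mul]
  · rw [hN k j hj hk, mul_zero]

theorem Stab7_pow {M : Matrix chevG2.Idx chevG2.Idx K} (hM : Stab7 M) (n : ℕ) :
    Stab7 (M ^ n) := by
  induction n with
  | zero => rw [pow_zero]; exact Stab7_one
  | succ n ih => rw [pow_succ]; exact Stab7_mul ih hM

theorem Stab7_x [CharP K 3] (r : ℕ) (t : K) : Stab7 (chevG2.x K r t) := fun i j hj hi =>
  reem7_x_entry r t i j hj hi

theorem Stab7_word [CharP K 3] (w : List (ℕ × K)) : Stab7 (chevG2.wordMat K w) := by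
  unfold ChevalleyDatum.wordMat
  induction w with
  | nil => rw [List.map_nil, List.prod_nil]; exact Stab7_one
  | cons p w ih => rw [List.map_cons, List.prod_cons]; exact Stab7_mul (Stab7_x _ _) ih

/-- the subgroup of `GL` preserving the 7 coordinates -/
def Q7 (K : Type u) [Field K] : Subgroup (GL chevG2.Idx K) where
  carrier := {g | Stab7 (g : Matrix chevG2.Idx chevG2.Idx K) ∧
    Stab7 ((g⁻¹ : GL chevG2.Idx K) : Matrix chevG2.Idx chevG2.Idx K)}
  one_mem' := by
    refine ⟨Stab7_one, ?_⟩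
    rw [inv_one]
    exact Stab7_one
  mul_mem' := by
    rintro a b ⟨ha, ha'⟩ ⟨hb, hb'⟩
    refine ⟨?_, ?_⟩
    · rw [Units.val_mul]; exact Stab7_mul ha hb
    · rw [_root_.mul_inv_rev, Units.val_mul]; exact Stab7_mul hb' ha'
  inv_mem' := by
    rintro a ⟨ha, ha'⟩
    refine ⟨ha', ?_⟩
    rw [inv_inv]
    exact ha

theorem reem7_le_Q7 [Fintype K] [CharP K 3] (e : ℕ) : twistedG2 K e ≤ Q7 K := by
  unfold twistedG2 ChevalleyDatum.genSubgroup
  rw [Subgroup.closure_le]
  rintro g ⟨w, _, hw⟩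
  have hg : Stab7 (g : Matrix chevG2.Idx chevG2.Idx K) := by
    rw [hw]; exact Stab7_word w
  refine ⟨hg, ?_⟩
  have hfin : 0 < orderOf g := orderOf_pos g
  have hinv : g⁻¹ = g ^ (orderOf g - 1) := by
    rw [eq_comm, ← mul_eq_one_iff_eq_inv, ← pow_succ, Nat.sub_add_cancel hfin,
      pow_orderOf_eq_one]
  rw [hinv, Units.val_pow_eq_pow_val]
  exact Stab7_pow hg _

/-- the 7 coordinates -/
def s7 : Fin 7 → chevG2.Idx :=
  ![Sum.inl ⟨0, by decide⟩, Sum.inr ⟨2, by decide⟩, Sum.inr ⟨3, by decide⟩,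
    Sum.inr ⟨4, by decide⟩, Sum.inr ⟨7, by decide⟩, Sum.inr ⟨8, by decide⟩,
    Sum.inr ⟨9, by decide⟩]

theorem s7_code (l : Fin 7) : h8code chevG2 (s7 l) ∈ s7c := by
  fin_cases l <;> decide

theorem s7_inj : Function.Injective s7 := by
  intro a b h
  have h' := congrArg (h8code chevG2) h
  revert h'
  fin_cases a <;> fin_cases b <;> decide

theorem s7_surj (k : chevG2.Idx) (hk : h8code chevG2 k ∈ s7c) : ∃ l : Fin 7, s7 l = k := by
  unfold s7c at hk
  simp only [List.mem_cons, List.not_mem_nil, or_false] at hk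
  rcases hk with h | h | h | h | h | h | h
  · exact ⟨0, h8code_injective chevG2 (by rw [h]; rfl)⟩
  · exact ⟨1, h8code_injective chevG2 (by rw [h]; rfl)⟩
  · exact ⟨2, h8code_injective chevG2 (by rw [h]; rfl)⟩
  · exact ⟨3, h8code_injective chevG2 (by rw [h]; rfl)⟩
  · exact ⟨4, h8code_injective chevG2 (by rw [h]; rfl)⟩
  · exact ⟨5, h8code_injective chevG2 (by rw [h]; rfl)⟩
  · exact ⟨6, h8code_injective chevG2 (by rw [h]; rfl)⟩

/-- restriction to the 7 coordinates -/
def sub7 (M : Matrix chevG2.Idx chevG2.Idx K) : Matrix (Fin 7) (Fin 7) K := M.submatrix s7 s7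

theorem sub7_one : sub7 (1 : Matrix chevG2.Idx chevG2.Idx K) = 1 :=
  Matrix.submatrix_one s7 s7_inj

theorem sub7_mul (M N : Matrix chevG2.Idx chevG2.Idx K) (hN : Stab7 N) :
    sub7 (M * N) = sub7 M * sub7 N := by
  ext a b
  unfold sub7
  rw [Matrix.submatrix_apply, Matrix.mul_apply, Matrix.mul_apply]
  rw [← Finset.sum_subset (Finset.subset_univ (Finset.univ.image s7))]
  · rw [Finset.sum_image (fun x _ y _ h => s7_inj h)]
    rfl
  · intro k _ hk
    rcases reem7_codes_cases k with hk' | hk'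
    · exfalso
      obtain ⟨l, rfl⟩ := s7_surj k hk'
      exact hk (Finset.mem_image_of_mem s7 (Finset.mem_univ l))
    · rw [hN k (s7 b) (s7_code b) hk', mul_zero]

/-- the representation of `Q7` on the 7 coordinates -/
def rhoQ (K : Type u) [Field K] : ↥(Q7 K) →* GL (Fin 7) K where
  toFun g := ⟨sub7 ((g : GL chevG2.Idx K) : Matrix chevG2.Idx chevG2.Idx K),
    sub7 (((g : GL chevG2.Idx K)⁻¹ : GL chevG2.Idx K) : Matrix chevG2.Idx chevG2.Idx K),
    by rw [← sub7_mul _ _ g.2.2, ← Units.val_mul, mul_inv_cancel, Units.val_one, sub7_one],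
    by rw [← sub7_mul _ _ g.2.1, ← Units.val_mul, inv_mul_cancel, Units.val_one, sub7_one]⟩
  map_one' := by
    apply Units.ext
    show sub7 (((1 : ↥(Q7 K)) : GL chevG2.Idx K) : Matrix chevG2.Idx chevG2.Idx K) = 1
    rw [Subgroup.coe_one, Units.val_one, sub7_one]
  map_mul' := by
    intro g h
    apply Units.ext
    show sub7 (((g * h : ↥(Q7 K)) : GL chevG2.Idx K) : Matrix chevG2.Idx chevG2.Idx K) =
      sub7 ((g : GL chevG2.Idx K) : Matrix chevG2.Idx chevG2.Idx K) *
        sub7 ((h : GL chevG2.Idx K) : Matrix chevG2.Idx chevG2.Idx K)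
    rw [Subgroup.coe_mul, Units.val_mul, sub7_mul _ _ h.2.1]

/-- the 7-dimensional representation of the twisted group -/
def rho7 (K : Type u) [Field K] [Fintype K] [CharP K 3] (e : ℕ) :
    ↥(twistedG2 K e) →* GL (Fin 7) K :=
  (rhoQ K).comp (Subgroup.inclusion (reem7_le_Q7 e))

theorem rho7_apply [Fintype K] [CharP K 3] (e : ℕ) (g : ↥(twistedG2 K e)) (a b : Fin 7) :
    ((rho7 K e g : GL (Fin 7) K) : Matrix (Fin 7) (Fin 7) K) a b =
      ((g : GL chevG2.Idx K) : Matrix chevG2.Idx chevG2.Idx K) (s7 a) (s7 b) := rfl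

theorem reem7_n0chk : H8Poly.isZeroP 3 (H8Poly.add
    (h8coeffAt (h8wordAct chevG2
      [(8, [(1, 0, 0)]), (10, [(1, 0, 0)]), (3, [(-1, 0, 0)]), (1, [(-1, 0, 0)]),
        (8, [(1, 0, 0)]), (10, [(1, 0, 0)])]
      [(h8code chevG2 (Sum.inr ⟨9, by decide⟩), H8Poly.const 1)])
      (h8code chevG2 (Sum.inr ⟨9, by decide⟩)))
    (H8Poly.neg [])) = true := by decide +kernel

theorem reem7_n0_entry [CharP K 3] (hB : H8Base.{u} chevG2) (e : ℕ) (he : e ≠ 0) :
    (h8reeN0 (K := K) hB e : Matrix chevG2.Idx chevG2.Idx K) (Sum.inr ⟨9, by decide⟩)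
      (Sum.inr ⟨9, by decide⟩) = 0 := by
  rw [h8reeN0_eq_word e he, h8wordU_val]
  have hw : ([(8, 1), (10, 1), (3, -1), (1, -1), (8, 1), (10, 1)] : List (ℕ × K)) =
      h8evWord (1 : K) 1 [(8, [(1, 0, 0)]), (10, [(1, 0, 0)]), (3, [(-1, 0, 0)]),
        (1, [(-1, 0, 0)]), (8, [(1, 0, 0)]), (10, [(1, 0, 0)])] := by
    simp [h8evWord, H8Poly.ev, H8Poly.mev]
  rw [hw, h8word_entryP 3 chevG2 1 1 one_ne_zero one_ne_zero _ _ _ _ reem7_n0chk]
  rfl

/-- the 7-dimensional representation of `²G₂(q)`, `q ≥ 27`, is faithful -/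
theorem rho7_injective [Fintype K] [CharP K 3] {m : ℕ} (hm : 1 ≤ m)
    (hK : Fintype.card K = 3 ^ (2 * m + 1)) : Function.Injective (rho7 K (3 ^ m)) := by
  have hD : chevG2 ∈ [chevG2, chevB2, chevD4, chevF4, chevE6, chevE7, chevE8] := by simp
  have hB := h8base_all.{u} chevG2 hD
  obtain ⟨hsimple, _⟩ := h8ree_simple hm hK
  rw [← MonoidHom.ker_eq_bot_iff]
  rcases (MonoidHom.normal_ker (rho7 K (3 ^ m))).eq_bot_or_eq_top with h | h
  · exact h
  · exfalso
    have he : (3 ^ m : ℕ) ≠ 0 := pow_ne_zero _ (by norm_num)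
    have hn0 : (⟨h8reeN0 hB (3 ^ m), h8reeN0_mem _⟩ : ↥(twistedG2 K (3 ^ m))) ∈
        (rho7 K (3 ^ m)).ker := by rw [h]; exact Subgroup.mem_top _
    rw [MonoidHom.mem_ker] at hn0
    have h66 := rho7_apply (3 ^ m) (⟨h8reeN0 hB (3 ^ m), h8reeN0_mem _⟩ :
      ↥(twistedG2 K (3 ^ m))) 6 6
    rw [hn0] at h66
    have h0 : ((h8reeN0 (K := K) hB (3 ^ m) : GL chevG2.Idx K) :
        Matrix chevG2.Idx chevG2.Idx K) (s7 6) (s7 6) = 0 := reem7_n0_entry hB (3 ^ m) he
    rw [show ((⟨h8reeN0 hB (3 ^ m), h8reeN0_mem _⟩ : ↥(twistedG2 K (3 ^ m))) :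
      GL chevG2.Idx K) = h8reeN0 hB (3 ^ m) from rfl, h0] at h66
    simp at h66

end Cfsg.Agent.Lib.helper7.REE
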