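import Mathlib
import Cfsg.Agent.Lib.helper7.REE.Bridge
import Cfsg.Agent.Lib.helper7.REE.M7

/-!
# Project REE: the small Ree group `²G₂(q)`, `q = 3^(2m+1) ≥ 27`, satisfies `ReeAx`.
-/

set_option autoImplicit false

namespace Cfsg.Agent.Lib.helper7.REE

open Cfsg.Lie Cfsg.Lie.ChevalleyDatum Cfsg.Agent.Lib.helper8

universe u

variable {K : Type u} [Field K] [Fintype K] {m : ℕ}

/-- `²G₂(q)` satisfies the axioms `ReeAx` from which Ward's structure theory is derived -/
theorem ree_ax (hm : 1 ≤ m) (hK : Fintype.card K = 3 ^ (2 * m + 1)) :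
    Nonempty (ReeAx ↥(twistedG2 K (3 ^ m)) K m) := by
  have hch3 : CharP K 3 := h8ree_char3 hK
  exact reebr_main hm hK (rho7 K (3 ^ m)) (rho7_injective hm hK)

end Cfsg.Agent.Lib.helper7.REE
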